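import Mathlib

/-!
# Trace sums for a cyclic `p`-group acting by conjugation on an algebra of characteristic `p`

The sum `∑ x^i ψ x^(M-1-i)` with `M = p^n` equals the same sum for `x - 1`, so it is a left multiple
of a large power of `x - 1` when `x - 1` has small nilpotency index.
-/

set_option autoImplicit false

namespace CfsgLib.TraceTI

variable {p : ℕ} [Fact p.Prime]

theorem choose_prime_pow_sub_one {R : Type*} [Ring R] (hp : (p : R) = 0) (n : ℕ) :
    ∀ i < p ^ n, ((p ^ n - 1).choose i : R) = (-1) ^ i := by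
  have hM : 0 < p ^ n := pow_pos (Fact.out : p.Prime).pos n
  intro i
  induction i with
  | zero => intro _; simp
  | succ i ih =>
    intro hi
    have h1 : (p ^ n).choose (i + 1) = (p ^ n - 1).choose i + (p ^ n - 1).choose (i + 1) := by
      conv_lhs => rw [show p ^ n = p ^ n - 1 + 1 by omega]
      exact Nat.choose_succ_succ _ _
    have h2 : ((p ^ n).choose (i + 1) : R) = 0 := by
      obtain ⟨c, hc⟩ := (Fact.out : p.Prime).dvd_choose_pow (n := n) (Nat.succ_ne_zero i)
        (Nat.ne_of_lt hi)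
      rw [hc, Nat.cast_mul, hp, zero_mul]
    rw [h1, Nat.cast_add, ih (by omega), add_comm, add_eq_zero_iff_eq_neg] at h2
    rw [h2, pow_succ, mul_neg_one]

theorem geom_sum_two_eq_sub_pow {R : Type*} [Ring R] (hp : (p : R) = 0) {A B : R}
    (h : Commute A B) (n : ℕ) :
    ∑ i ∈ Finset.range (p ^ n), A ^ i * B ^ (p ^ n - 1 - i) = (A - B) ^ (p ^ n - 1) := by
  have hM : 0 < p ^ n := pow_pos (Fact.out : p.Prime).pos n
  have hsign : ((-1 : R)) ^ (p ^ n - 1) = 1 := by
    have := choose_prime_pow_sub_one hp n (p ^ n - 1) (by omega)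
    rw [Nat.choose_self, Nat.cast_one] at this
    exact this.symm
  rw [sub_eq_add_neg, h.neg_right.add_pow, show p ^ n - 1 + 1 = p ^ n by omega]
  refine Finset.sum_congr rfl fun i hi => ?_
  rw [Finset.mem_range] at hi
  rw [choose_prime_pow_sub_one hp n i hi, neg_pow B, mul_assoc, mul_assoc,
    ← ((Commute.neg_one_left (B ^ (p ^ n - 1 - i))).pow_left i).eq, ← mul_assoc ((-1 : R) ^ _),
    ← pow_add, show p ^ n - 1 - i + i = p ^ n - 1 by omega, hsign, one_mul]

variable (F : Type*) {E : Type*} [Field F] [CharP F p] [Ring E] [Algebra F E]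

include F

theorem sum_conj_eq_sum_sub_one (x ψ : E) (n : ℕ) :
    ∑ i ∈ Finset.range (p ^ n), x ^ i * ψ * x ^ (p ^ n - 1 - i) =
      ∑ i ∈ Finset.range (p ^ n), (x - 1) ^ i * ψ * (x - 1) ^ (p ^ n - 1 - i) := by
  have hp : (p : Module.End F E) = 0 := by
    rw [← map_natCast (algebraMap F (Module.End F E)), CharP.cast_eq_zero, map_zero]
  have key : ∀ a : E, ∑ i ∈ Finset.range (p ^ n), a ^ i * ψ * a ^ (p ^ n - 1 - i) =
      ((LinearMap.mulLeft F a - LinearMap.mulRight F a) ^ (p ^ n - 1)) ψ := by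
    intro a
    rw [← geom_sum_two_eq_sub_pow hp (LinearMap.commute_mulLeft_right a a) n, LinearMap.sum_apply]
    refine Finset.sum_congr rfl fun i _ => ?_
    rw [LinearMap.pow_mulLeft, LinearMap.pow_mulRight, Module.End.mul_apply,
      LinearMap.mulLeft_apply, LinearMap.mulRight_apply, mul_assoc]
  have e : LinearMap.mulLeft F (x - 1) - LinearMap.mulRight F (x - 1) =
      LinearMap.mulLeft F x - LinearMap.mulRight F x := by
    refine LinearMap.ext fun a => ?_
    simp only [LinearMap.sub_apply, LinearMap.mulLeft_apply, LinearMap.mulRight_apply, sub_mul,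
      mul_sub, one_mul, mul_one]
    abel
  rw [key, key, e]

theorem pow_dvd_sum_conj (x ψ : E) (n s : ℕ) (hnil : ∀ j, p ^ n - s ≤ j → (x - 1) ^ j = 0) :
    (x - 1) ^ s ∣ ∑ i ∈ Finset.range (p ^ n), x ^ i * ψ * x ^ (p ^ n - 1 - i) := by
  rw [sum_conj_eq_sum_sub_one F]
  refine Finset.dvd_sum fun i _ => ?_
  by_cases h : s ≤ i
  · exact Dvd.dvd.mul_right (Dvd.dvd.mul_right (pow_dvd_pow _ h) _) _
  · rw [hnil (p ^ n - 1 - i) (by omega), mul_zero]
    exact dvd_zero _

end CfsgLib.TraceTI
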