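import Mathlib

/-!
# Sums over the orbits on which a finite group acts freely
-/

set_option autoImplicit false

namespace CfsgLib.TraceTI

/-- An equivariant sum over an invariant set of points with trivial stabilisers is a trace. -/
theorem exists_sum_free_eq_trace {H α E : Type*} [Group H] [Fintype H] [MulAction H α] [Fintype α]
    [DecidableEq α] [AddCommMonoid E] (c : H → E →+ E) (f : α → E)
    (hf : ∀ (x : H) (q : α), f (x • q) = c x (f q)) (U : Finset α)
    (hU : ∀ (x : H), ∀ q ∈ U, x • q ∈ U) (hfree : ∀ q ∈ U, ∀ x : H, x • q = q → x = 1) :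
    ∃ ψ : E, ∑ q ∈ U, f q = ∑ x : H, c x ψ := by
  classical
  set R : Finset α :=
    U.filter fun q => (Quotient.mk (MulAction.orbitRel H α) q).out = q with hR
  refine ⟨∑ r ∈ R, f r, ?_⟩
  simp only [map_sum]
  rw [← Finset.sum_product', eq_comm]
  refine Finset.sum_bij (fun a _ => a.1 • a.2) ?_ ?_ ?_ ?_
  · intro a ha
    exact hU _ _ (Finset.mem_filter.1 (Finset.mem_product.1 ha).2).1
  · rintro ⟨x, r⟩ ha ⟨x', r'⟩ ha' e
    obtain ⟨hrU, hr⟩ := Finset.mem_filter.1 (Finset.mem_product.1 ha).2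
    obtain ⟨-, hr'⟩ := Finset.mem_filter.1 (Finset.mem_product.1 ha').2
    simp only at e hr hr' hrU
    have e' : (x'⁻¹ * x) • r = r' := by rw [mul_smul, e, inv_smul_smul]
    have hrr : r = r' := by
      rw [← hr, ← hr']
      refine congrArg Quotient.out (Quotient.sound ?_)
      exact MulAction.mem_orbit_iff.2 ⟨(x'⁻¹ * x)⁻¹, by rw [← e', inv_smul_smul]⟩
    subst hrr
    exact Prod.ext (inv_mul_eq_one.1 (hfree r hrU _ e')).symm rfl
  · intro q hq
    have h := @Quotient.mk_out _ (MulAction.orbitRel H α) q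
    obtain ⟨x, hx⟩ := MulAction.mem_orbit_iff.1 ((MulAction.orbitRel H α).iseqv.symm h)
    set r := (Quotient.mk (MulAction.orbitRel H α) q).out
    refine ⟨(x, r), Finset.mem_product.2 ⟨Finset.mem_univ _, Finset.mem_filter.2 ⟨?_, ?_⟩⟩, hx⟩
    · have := hU x⁻¹ q hq
      rwa [← hx, inv_smul_smul] at this
    · change (Quotient.mk _ r).out = r
      exact congrArg Quotient.out (Quotient.out_eq _)
  · intro a _
    exact (hf a.1 a.2).symm

end CfsgLib.TraceTI
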