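import Cfsg.Agent.Lib.TraceTI.CyclicTI

/-!
# The degree of a faithful irreducible module with a cyclic TI Sylow subgroup of order `p^n`

If `x` generates the Sylow subgroup and the degree is below `p^n - (p - 1)`, the product of the
`x^k - 1` over the automorphisms induced by the normaliser is nilpotent and invariant, so it is a
trace from `1`, which forces `(x - 1)^e = 0` for some `e < p`.
-/

set_option autoImplicit false

open scoped IsMulCommutative

namespace CfsgLib.TraceTI

open Module

theorem pow_eq_zero_of_eq_mul {E : Type*} [Ring E] {X w : E} {e s M : ℕ} (hes : e < s)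
    (hM : X ^ M = 0) (h : X ^ e = X ^ s * w) : X ^ e = 0 := by
  have key : ∀ k, ∃ w', X ^ e = X ^ (e + k) * w' := by
    intro k
    induction k with
    | zero => exact ⟨1, by simp⟩
    | succ k ih =>
      obtain ⟨w', hw'⟩ := ih
      refine ⟨X ^ (s - e - 1) * w * w', ?_⟩
      calc X ^ e = X ^ (e + k) * w' := hw'
        _ = X ^ k * X ^ e * w' := by rw [← pow_add, add_comm k e]
        _ = X ^ k * (X ^ s * w) * w' := by rw [← h]
        _ = X ^ (k + s) * (w * w') := by rw [pow_add]; simp only [mul_assoc]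
        _ = _ := by
          rw [show k + s = e + (k + 1) + (s - e - 1) by omega, pow_add]
          simp only [mul_assoc]
  obtain ⟨w', hw'⟩ := key M
  rw [hw', pow_add, hM, mul_zero, zero_mul]

theorem exists_invariant_nilpotent {G : Type*} [Group G] [Finite G] {p : ℕ} [Fact p.Prime]
    {F V : Type*} [Field F] [CharP F p] [AddCommGroup V] [Module F V]
    (ρ : Representation F G V) (P : Sylow p G) {g : G}
    (hgP : (P : Subgroup G) = Subgroup.zpowers g) {n : ℕ} (hn : 1 ≤ n)
    (hord : orderOf g = p ^ n) :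
    ∃ (e : ℕ) (φ u : Module.End F V), 0 < e ∧ e < p ∧ IsUnit u ∧
      φ = (ρ g - 1) ^ e * u ∧
      ∀ y ∈ Subgroup.normalizer ((P : Subgroup G) : Set G), conjEnd ρ y φ = φ := by
  classical
  have hp : p.Prime := Fact.out
  have : IsCyclic ↥(P : Subgroup G) := by rw [hgP]; infer_instance
  have hgmem : g ∈ (P : Subgroup G) := hgP ▸ Subgroup.mem_zpowers g
  set ν := Subgroup.normalizerMonoidHom (P : Subgroup G) with hν
  have hcardP : Nat.card ↥(P : Subgroup G) = p ^ n := by rw [hgP, Nat.card_zpowers, hord]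
  have hR : Nat.card ν.range < p := by
    have h1 : Nat.card ν.range ∣ p ^ (n - 1) * (p - 1) := by
      rw [← Nat.totient_prime_pow hp hn, ← hcardP, ← IsCyclic.card_mulAut]
      exact Subgroup.card_subgroup_dvd_card _
    have hker : (P : Subgroup G).subgroupOf (Subgroup.normalizer ((P : Subgroup G) : Set G)) ≤
        ν.ker := by
      rw [Subgroup.normalizerMonoidHom_ker]
      intro x hx
      rw [Subgroup.mem_subgroupOf, Subgroup.mem_centralizer_iff]
      intro z hz
      exact congrArg Subtype.val (mul_comm' (⟨z, hz⟩ : ↥(P : Subgroup G)) ⟨x, hx⟩)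
    have h2 : ¬ p ∣ Nat.card ν.range := by
      rw [← Subgroup.index_ker]
      exact fun h => P.not_dvd_index ((h.trans (Subgroup.index_dvd_of_le hker)).trans
        (Subgroup.relIndex_dvd_index_of_le Subgroup.le_normalizer))
    have h3 := Nat.Coprime.dvd_of_dvd_mul_left
      (((hp.coprime_iff_not_dvd.2 h2).symm).pow_right (n - 1)) h1
    have := hp.two_le
    have := Nat.le_of_dvd (by omega) h3
    omega
  let gP : ↥(P : Subgroup G) := ⟨g, hgmem⟩
  have hk : ∀ a : ν.range, ∃ k : ℕ, g ^ k = ((a : MulAut ↥(P : Subgroup G)) gP : G) := by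
    intro a
    have h : ((a : MulAut ↥(P : Subgroup G)) gP : G) ∈ Subgroup.zpowers g :=
      hgP ▸ ((a : MulAut ↥(P : Subgroup G)) gP).2
    obtain ⟨k, -, hk⟩ := Finset.mem_image.1 (mem_zpowers_iff_mem_range_orderOf.1 h)
    exact ⟨k, hk⟩
  choose k hk using hk
  have hkp : ∀ a : ν.range, ¬ p ∣ k a := by
    rintro a ⟨c, hc⟩
    have h : ((a : MulAut ↥(P : Subgroup G)) gP : G) ^ p ^ (n - 1) = 1 := by
      rw [← hk, ← pow_mul, hc, ← orderOf_dvd_iff_pow_eq_one, hord, mul_right_comm, ← pow_succ',
        show n - 1 + 1 = n by omega]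
      exact dvd_mul_right _ _
    have h' : gP ^ p ^ (n - 1) = 1 := by
      apply (a : MulAut ↥(P : Subgroup G)).injective
      rw [map_pow, map_one]
      exact Subtype.ext (by simpa using h)
    have h'' := orderOf_dvd_of_pow_eq_one h'
    rw [show orderOf gP = p ^ n by rw [← hord]; exact (Subgroup.orderOf_coe gP).symm,
      Nat.pow_dvd_pow_iff_le_right hp.one_lt] at h''
    omega
  set x : Module.End F V := ρ g with hx
  haveI : IsMulCommutative ↥(Algebra.adjoin F ({x} : Set (Module.End F V))) :=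
    Algebra.isMulCommutative_adjoin F (by rintro a ⟨⟩ b ⟨⟩; rfl)
  let B := Algebra.adjoin F ({x} : Set (Module.End F V))
  let ξ : ↥B := ⟨x, Algebra.self_mem_adjoin_singleton F x⟩
  have hxM : x ^ p ^ n = 1 := by rw [hx, ← map_pow, ← hord, pow_orderOf_eq_one, map_one]
  have hnil : IsNilpotent (ξ - 1) := by
    refine ⟨p ^ n, Subtype.ext ?_⟩
    rcases subsingleton_or_nontrivial (Module.End F V) with _ | _
    · exact Subsingleton.elim _ _
    have : CharP (Module.End F V) p := charP_of_injective_algebraMap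
      (algebraMap F (Module.End F V)).injective p
    change (x - 1) ^ p ^ n = 0
    rw [sub_pow_char_pow_of_commute p n (Commute.one_right x), hxM, one_pow, sub_self]
  have hu : ∀ a : ν.range, IsUnit (∑ i ∈ Finset.range (k a), ξ ^ i) := by
    intro a
    have h1 : IsUnit ((k a : ↥B)) := by
      rw [← map_natCast (algebraMap F ↥B)]
      exact (isUnit_iff_ne_zero.2 fun e => hkp a ((CharP.cast_eq_zero_iff F p _).1 e)).map _
    have h2 : IsNilpotent (∑ i ∈ Finset.range (k a), (ξ ^ i - 1)) :=
      isNilpotent_sum fun i _ => by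
        rw [← mul_geom_sum]
        exact (Commute.all _ _).isNilpotent_mul_right hnil
    have h3 := h2.isUnit_add_left_of_commute h1 (Commute.all _ _)
    rwa [Finset.sum_sub_distrib, Finset.sum_const, Finset.card_range, nsmul_one,
      add_sub_cancel] at h3
  haveI : Fintype ν.range := Fintype.ofFinite _
  refine ⟨Fintype.card ν.range, ((∏ a : ν.range, (ξ ^ k a - 1) : ↥B) : Module.End F V),
    ((∏ a : ν.range, ∑ i ∈ Finset.range (k a), ξ ^ i : ↥B) : Module.End F V), Fintype.card_pos,
    by rwa [← Nat.card_eq_fintype_card],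
    (IsUnit.prod_univ_iff.2 hu).map B.val, ?_, ?_⟩
  · have e : (∏ a : ν.range, (ξ ^ k a - 1) : ↥B) =
        (ξ - 1) ^ Fintype.card ν.range * ∏ a : ν.range, ∑ i ∈ Finset.range (k a), ξ ^ i := by
      rw [← Finset.prod_congr rfl fun a _ => mul_geom_sum ξ (k a), Finset.prod_mul_distrib,
        Finset.prod_const, Finset.card_univ]
    rw [e]
    rfl
  · intro y hy
    let b : ν.range := ⟨ν ⟨y, hy⟩, ⟨_, rfl⟩⟩
    have hone : ∀ a : ν.range, SemiconjBy (ρ y) ((ξ ^ k a - 1 : ↥B) : Module.End F V)
        ((ξ ^ k (b * a) - 1 : ↥B) : Module.End F V) := by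
      intro a
      refine SemiconjBy.sub_right ?_ (SemiconjBy.one_right _)
      change ρ y * x ^ k a = x ^ k (b * a) * ρ y
      rw [hx, ← map_pow, ← map_pow, hk, hk, ← map_mul, ← map_mul]
      refine congrArg ρ ?_
      change y * _ = (y * _ * y⁻¹) * y
      rw [inv_mul_cancel_right]
      rfl
    have hprod : ∀ s : Finset ν.range, SemiconjBy (ρ y)
        ((∏ a ∈ s, (ξ ^ k a - 1) : ↥B) : Module.End F V)
        ((∏ a ∈ s, (ξ ^ k (b * a) - 1) : ↥B) : Module.End F V) := by
      intro s
      induction s using Finset.induction_on with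
      | empty => simp
      | insert a s ha ih =>
        rw [Finset.prod_insert ha, Finset.prod_insert ha]
        exact SemiconjBy.mul_right (hone a) ih
    have h := hprod Finset.univ
    rw [show (∏ a : ν.range, (ξ ^ k (b * a) - 1)) = ∏ a : ν.range, (ξ ^ k a - 1) from
      Equiv.prod_comp (Equiv.mulLeft b) (fun a => ξ ^ k a - 1)] at h
    rw [conjEnd_apply, h.eq, mul_assoc, ← map_mul, mul_inv_cancel, map_one, mul_one]

/-- The degree bound. -/
theorem le_finrank_of_cyclic_ti {G : Type*} [Group G] [Finite G] {p : ℕ} [Fact p.Prime]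
    {F V : Type*} [Field F] [CharP F p] [AddCommGroup V] [Module F V] [FiniteDimensional F V]
    (ρ : Representation F G V) [ρ.IsIrreducible] (hfaith : Function.Injective ρ)
    (P : Sylow p G) (hcyc : IsCyclic ↥(P : Subgroup G)) {n : ℕ} (hn : 2 ≤ n)
    (hPn : Nat.card ↥(P : Subgroup G) = p ^ n)
    (hTI : ∀ Q : Sylow p G, Q ≠ P → (P : Subgroup G) ⊓ (Q : Subgroup G) = ⊥) :
    p ^ n - (p - 1) ≤ finrank F V := by
  classical
  have hp : p.Prime := Fact.out
  by_contra hlt
  have : Nontrivial V := by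
    by_contra h
    rw [not_nontrivial_iff_subsingleton] at h
    have hbt : (⊥ : Subrepresentation ρ) ≠ ⊤ := bot_ne_top
    exact hbt (Subrepresentation.toSubmodule_injective (Subsingleton.elim _ _))
  obtain ⟨g, hg⟩ := Subgroup.isCyclic_iff_exists_zpowers_eq_top ((P : Subgroup G)) |>.1 hcyc
  have hord : orderOf g = p ^ n := by rw [← Nat.card_zpowers, hg, hPn]
  obtain ⟨e, φ, u, he0, hep, hu, hφ, hinv⟩ :=
    exists_invariant_nilpotent ρ P hg.symm (by omega) hord
  have : Fintype ↥(P : Subgroup G) := Fintype.ofFinite _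
  obtain ⟨Ψ, ψ, m, hm, hΨ, hΨeq⟩ := exists_invariant_eq_add_trace ρ P hTI φ hinv
  set X : Module.End F V := ρ g - 1 with hX
  have hxM : ρ g ^ p ^ n = 1 := by rw [← map_pow, ← hord, pow_orderOf_eq_one, map_one]
  have : CharP (Module.End F V) p := charP_of_injective_algebraMap
    (algebraMap F (Module.End F V)).injective p
  have hXM : X ^ p ^ n = 0 := by
    rw [hX, sub_pow_char_pow_of_commute p n (Commute.one_right _), hxM, one_pow, sub_self]
  have hXd : X ^ finrank F V = 0 := by
    have h := LinearMap.aeval_self_charpoly X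
    rwa [IsNilpotent.charpoly_eq_X_pow_finrank ⟨_, hXM⟩, map_pow, Polynomial.aeval_X] at h
  have hlow : p ≤ p ^ n := Nat.le_self_pow (by omega) p
  have htr : ∑ x : ↥(P : Subgroup G), conjEnd ρ (x : G) ψ =
      (∑ i ∈ Finset.range (p ^ n), ρ g ^ i * ψ * ρ g ^ (p ^ n - 1 - i)) * ρ g := by
    rw [Finset.sum_mul]
    refine (Finset.sum_bij (fun i _ => (⟨g ^ i, hg ▸ Subgroup.npow_mem_zpowers g i⟩ :
      ↥(P : Subgroup G))) (fun _ _ => Finset.mem_univ _) ?_ ?_ ?_).symm
    · intro i hi j hj hij
      rw [Finset.mem_range, ← hord] at hi hj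
      exact pow_injOn_Iio_orderOf hi hj (congrArg Subtype.val hij)
    · intro x _
      have h : (x : G) ∈ Subgroup.zpowers g := hg.symm ▸ x.2
      obtain ⟨i, hi, hix⟩ := Finset.mem_image.1 (mem_zpowers_iff_mem_range_orderOf.1 h)
      exact ⟨i, by rwa [← hord], Subtype.ext hix⟩
    · intro i hi
      rw [Finset.mem_range] at hi
      rw [conjEnd_apply, mul_assoc, ← pow_succ, map_pow]
      congr 1
      rw [← map_pow]
      refine congrArg ρ (inv_eq_of_mul_eq_one_right ?_).symm
      rw [← pow_add, show i + (p ^ n - 1 - i + 1) = orderOf g by omega, pow_orderOf_eq_one]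
  obtain ⟨w, hw⟩ := pow_dvd_sum_conj F (ρ g) ψ n p fun j hj => by
    rw [← hX, show j = finrank F V + (j - finrank F V) by omega, pow_add, hXd, zero_mul]
  rw [← hX] at hw
  rw [htr, hw, hφ] at hΨeq
  have hΨ0 : Ψ = 0 := by
    refine eq_zero_of_invariant_not_surjective ρ Ψ hΨ fun hsurj => ?_
    have hXsurj : Function.Surjective X := by
      intro v
      obtain ⟨z, hz⟩ := hsurj v
      refine ⟨((m : F) • (X ^ (e - 1) * u) + X ^ (p - 1) * w * ρ g) z, ?_⟩
      rw [← hz, ← Module.End.mul_apply]
      refine LinearMap.congr_fun ?_ z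
      rw [hΨeq, mul_add, mul_smul_comm, ← mul_assoc X, ← pow_succ', show e - 1 + 1 = e by omega,
        ← mul_assoc X, ← mul_assoc X, ← pow_succ', show p - 1 + 1 = p by omega]
    have hpow : ∀ k : ℕ, Function.Surjective (X ^ k : Module.End F V) := fun k => by
      rw [Module.End.coe_pow]
      exact hXsurj.iterate k
    obtain ⟨v, hv⟩ := exists_ne (0 : V)
    obtain ⟨z, hz⟩ := hpow (p ^ n) v
    exact hv (by rw [← hz, hXM, LinearMap.zero_apply])
  have hm0 : (m : F) ≠ 0 := fun h => hm ((CharP.cast_eq_zero_iff F p m).1 h)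
  obtain ⟨v, hv⟩ := hu
  have hXe : X ^ e = X ^ p * (-((m : F)⁻¹ • (w * ρ g * ↑v⁻¹))) := by
    have h := congrArg (fun T : Module.End F V => (m : F)⁻¹ • (T * ((v⁻¹ : (Module.End F V)ˣ) : Module.End F V))) (hΨeq.symm.trans hΨ0)
    simp only [zero_mul, smul_zero, add_mul, smul_add, smul_mul_assoc, smul_smul,
      inv_mul_cancel₀ hm0, one_smul, ← hv, Units.mul_inv_cancel_right] at h
    rw [eq_neg_of_add_eq_zero_left h, mul_neg, mul_smul_comm]
    simp only [mul_assoc]
  have hzero := pow_eq_zero_of_eq_mul hep hXM hXe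
  have hq : X ^ p ^ (n - 1) = 0 := by
    have h1 : p ≤ p ^ (n - 1) := Nat.le_self_pow (by omega) p
    rw [show p ^ (n - 1) = e + (p ^ (n - 1) - e) by omega, pow_add, hzero, zero_mul]
  rw [hX, sub_pow_char_pow_of_commute p (n - 1) (Commute.one_right _), one_pow, sub_eq_zero,
    ← map_pow] at hq
  have h1 := orderOf_dvd_of_pow_eq_one (hfaith (hq.trans (map_one ρ).symm))
  rw [hord, Nat.pow_dvd_pow_iff_le_right hp.one_lt] at h1
  omega

end CfsgLib.TraceTI
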