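import Cfsg.Agent.Lib.TraceTI.Sums
import Cfsg.Agent.Lib.TraceTI.Orbits

/-!
# Faithful irreducible modules for groups with a cyclic TI Sylow subgroup

A relative trace of an `N_G(P)`-invariant endomorphism differs from that endomorphism by a trace
from `1` to `P`, and by Schur's lemma it is zero when nilpotent.
-/

set_option autoImplicit false

open scoped IsMulCommutative

namespace CfsgLib.TraceTI

open Module

variable {G : Type*} [Group G] [Finite G] {p : ℕ} [Fact p.Prime] {F V : Type*} [Field F]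
  [CharP F p] [AddCommGroup V] [Module F V] (ρ : Representation F G V)

/-- Conjugation on endomorphisms. -/
def conjEnd (g : G) : Module.End F V →+ Module.End F V :=
  (AddMonoidHom.mulRight (ρ g⁻¹)).comp (AddMonoidHom.mulLeft (ρ g))

omit [Finite G] [CharP F p] in
theorem conjEnd_apply (g : G) (ψ : Module.End F V) : conjEnd ρ g ψ = ρ g * ψ * ρ g⁻¹ := rfl

omit [Finite G] [CharP F p] in
theorem conjEnd_mul (g h : G) (ψ : Module.End F V) :
    conjEnd ρ (g * h) ψ = conjEnd ρ g (conjEnd ρ h ψ) := by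
  simp only [conjEnd_apply, mul_inv_rev, map_mul, mul_assoc]

/-- Relative trace: an endomorphism invariant under the normaliser of a TI Sylow subgroup lifts to an
invariant endomorphism, modulo a trace from the trivial subgroup. -/
theorem exists_invariant_eq_add_trace (P : Sylow p G) [Fintype ↥(P : Subgroup G)]
    (hTI : ∀ Q : Sylow p G, Q ≠ P → (P : Subgroup G) ⊓ (Q : Subgroup G) = ⊥)
    (φ : Module.End F V)
    (hφ : ∀ y ∈ Subgroup.normalizer ((P : Subgroup G) : Set G), conjEnd ρ y φ = φ) :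
    ∃ (Ψ ψ : Module.End F V) (m : ℕ), ¬ p ∣ m ∧ (∀ h : G, conjEnd ρ h Ψ = Ψ) ∧
      Ψ = (m : F) • φ + ∑ x : ↥(P : Subgroup G), conjEnd ρ (x : G) ψ := by
  classical
  have : Fintype (G ⧸ (P : Subgroup G)) := Fintype.ofFinite _
  set f : G ⧸ (P : Subgroup G) → Module.End F V := fun q => conjEnd ρ q.out φ with hf
  have hmk : ∀ g : G, f (g : G ⧸ (P : Subgroup G)) = conjEnd ρ g φ := by
    intro g
    obtain ⟨y, hy⟩ := QuotientGroup.mk_out_eq_mul (P : Subgroup G) g
    rw [hf]
    simp only
    rw [hy, conjEnd_mul, hφ y.1 (Subgroup.le_normalizer y.2)]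
  have hfs : ∀ (h : G) (q : G ⧸ (P : Subgroup G)), f (h • q) = conjEnd ρ h (f q) := by
    intro h q
    obtain ⟨g, rfl⟩ := QuotientGroup.mk_surjective q
    rw [MulAction.Quotient.smul_coe, hmk, hmk, smul_eq_mul, conjEnd_mul]
  set U : Finset (G ⧸ (P : Subgroup G)) :=
    Finset.univ.filter fun q => q ∉ MulAction.fixedPoints ↥(P : Subgroup G) (G ⧸ (P : Subgroup G))
    with hUdef
  have hUsmul : ∀ (x : ↥(P : Subgroup G)), ∀ q ∈ U, x • q ∈ U := by
    intro x q hq
    simp only [hUdef, Finset.mem_filter, Finset.mem_univ, true_and] at hq ⊢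
    intro hfix
    have e : q = x • q := by
      have := hfix x⁻¹
      rwa [inv_smul_smul] at this
    exact hq (e ▸ hfix)
  have hconj : ∀ (g : G) (x : ↥(P : Subgroup G)),
      x • (g : G ⧸ (P : Subgroup G)) = g ↔ g⁻¹ * x * g ∈ (P : Subgroup G) := by
    intro g x
    rw [show x • (g : G ⧸ (P : Subgroup G)) = ((x : G) * g : G) from rfl, eq_comm,
      QuotientGroup.eq, mul_assoc]
  have hfix : ∀ g : G, (g : G ⧸ (P : Subgroup G)) ∈ MulAction.fixedPoints ↥(P : Subgroup G) _ ↔
      g ∈ Subgroup.normalizer ((P : Subgroup G) : Set G) := by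
    intro g
    constructor
    · intro h
      refine Sylow.smul_eq_iff_mem_normalizer (P := P).1 ?_
      by_contra hne
      have hle : (P : Subgroup G) ≤ ((g • P : Sylow p G) : Subgroup G) := by
        intro x hx
        refine Subgroup.mem_map.2 ⟨g⁻¹ * x * g, (hconj g ⟨x, hx⟩).1 (h ⟨x, hx⟩), ?_⟩
        simp [mul_assoc]
      exact hne (Sylow.ext (P.is_maximal' (g • P).isPGroup' hle))
    · intro hg x
      rw [hconj]
      exact (Subgroup.mem_normalizer_iff''.1 hg _).1 x.2
  have hfree : ∀ q ∈ U, ∀ x : ↥(P : Subgroup G), x • q = q → x = 1 := by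
    intro q hq x hx
    obtain ⟨g, rfl⟩ := QuotientGroup.mk_surjective q
    simp only [hUdef, Finset.mem_filter, Finset.mem_univ, true_and, hfix] at hq
    have hne : g • P ≠ P := fun e => hq (Sylow.smul_eq_iff_mem_normalizer.1 e)
    have hmem : (x : G) ∈ (P : Subgroup G) ⊓ ((g • P : Sylow p G) : Subgroup G) :=
      ⟨x.2, Subgroup.mem_map.2 ⟨g⁻¹ * x * g, (hconj g x).1 hx, by simp [mul_assoc]⟩⟩
    rw [hTI _ hne, Subgroup.mem_bot] at hmem
    exact Subtype.ext hmem
  obtain ⟨ψ, hψ⟩ := exists_sum_free_eq_trace (fun x : ↥(P : Subgroup G) => conjEnd ρ (x : G)) f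
    (fun x q => hfs x q) U hUsmul hfree
  set W : Finset (G ⧸ (P : Subgroup G)) :=
    Finset.univ.filter fun q => q ∈ MulAction.fixedPoints ↥(P : Subgroup G) (G ⧸ (P : Subgroup G))
    with hWdef
  refine ⟨∑ q, f q, ψ, W.card, ?_, ?_, ?_⟩
  · intro hdvd
    have h1 := P.isPGroup'.card_modEq_card_fixedPoints (G ⧸ (P : Subgroup G))
    have h2 : Nat.card ↥(MulAction.fixedPoints ↥(P : Subgroup G) (G ⧸ (P : Subgroup G))) = W.card := by
      rw [hWdef, Nat.card_eq_fintype_card, ← Set.toFinset_card]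
      congr 1
      ext q
      simp
    rw [h2] at h1
    exact P.not_dvd_index ((Nat.ModEq.dvd_iff h1 dvd_rfl).2 hdvd)
  · intro h
    rw [map_sum]
    simp only [← hfs]
    exact Equiv.sum_comp (MulAction.toPerm h) f
  · rw [← Finset.sum_filter_add_sum_filter_not Finset.univ
      (fun q => q ∈ MulAction.fixedPoints ↥(P : Subgroup G) (G ⧸ (P : Subgroup G))) f, hψ]
    congr 1
    rw [Finset.sum_congr rfl (g := fun _ => φ), Finset.sum_const, ← Nat.cast_smul_eq_nsmul F]
    intro q hq
    obtain ⟨g, rfl⟩ := QuotientGroup.mk_surjective q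
    rw [hmk]
    exact hφ g ((hfix g).1 (Finset.mem_filter.1 hq).2)

omit [Finite G] [CharP F p] in
theorem eq_zero_of_invariant_not_surjective [FiniteDimensional F V] [ρ.IsIrreducible]
    (Ψ : Module.End F V) (hΨ : ∀ h : G, conjEnd ρ h Ψ = Ψ) (hns : ¬ Function.Surjective Ψ) :
    Ψ = 0 := by
  have hcomm : ∀ (h : G) (v : V), Ψ (ρ h v) = ρ h (Ψ v) := by
    intro h v
    conv_lhs => rw [← hΨ h, conjEnd_apply, Module.End.mul_apply, Module.End.mul_apply,
      Representation.inv_self_apply]
  rcases Representation.IsIrreducible.injective_or_eq_zero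
    (Ψ.intertwiningMap_of_isIntertwiningMap ρ ρ hcomm) with h | h
  · exact absurd ((LinearMap.injective_iff_surjective (f := Ψ)).1 h) hns
  · exact congrArg Representation.IntertwiningMap.toLinearMap h

end CfsgLib.TraceTI
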